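/-
Elements of transitive groups of degree eleven not containing the alternating group.
-/
import Cfsg.Agent.FGSB.Jordan
import Cfsg.Agent.PermSimple.PrimeDegree

set_option autoImplicit false
set_option linter.style.haveILetI false
set_option linter.unusedSectionVars false

namespace CfsgLib.ElevenPts

open Equiv Equiv.Perm MulAction

variable {α : Type*} [Fintype α] [DecidableEq α] (hα : Fintype.card α = 11)
  {G : Subgroup (Perm α)} [IsPretransitive G α] (hA : ¬ alternatingGroup α ≤ G)
include hα hA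

omit hA in
theorem isPreprimitive : IsPreprimitive G α :=
  IsPreprimitive.of_prime_card (by rw [Nat.card_eq_fintype_card, hα]; norm_num)

omit hA in
/-- An element of prime order: the shape of its support. -/
theorem prime_shape {σ : Perm α} {p : ℕ} (hp : p.Prime) (ho : orderOf σ = p) :
    ∃ j, 1 ≤ j ∧ σ.support.card = j * p ∧ j * p ≤ 11 ∧
      σ.cycleType = Multiset.replicate j p := by
  obtain ⟨m, hm⟩ := cycleType_prime_order (σ := σ) (ho ▸ hp)
  rw [ho] at hm
  have hs : σ.support.card = (m + 1) * p := by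
    rw [← sum_cycleType, hm, Multiset.sum_replicate, smul_eq_mul]
  refine ⟨m + 1, by omega, hs, ?_, hm⟩
  rw [← hs, ← hα]
  exact Finset.card_le_univ _

/-- Small prime order elements are not single cycles. -/
theorem two_le_cycles {σ : Perm α} (hσ : σ ∈ G) {p : ℕ} (hp : p.Prime) (ho : orderOf σ = p)
    (hp8 : p ≤ 8) :
    ∃ j, 2 ≤ j ∧ σ.support.card = j * p ∧ j * p ≤ 11 ∧ σ.cycleType = Multiset.replicate j p := by
  obtain ⟨j, hj, hs, hle, hc⟩ := prime_shape hα hp ho
  refine ⟨j, ?_, hs, hle, hc⟩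
  by_contra hlt
  obtain rfl : j = 1 := by omega
  rw [one_mul] at hs
  exact hA (CfsgLib.Jordan.alternatingGroup_le_of_isCycle (isPreprimitive hα) hσ
    (by rw [← card_cycleType_eq_one, hc, Multiset.card_replicate]) (hs ▸ hp) (by omega))

theorem not_seven {σ : Perm α} (hσ : σ ∈ G) : orderOf σ ≠ 7 := by
  intro ho
  obtain ⟨j, hj, -, hle, -⟩ := two_le_cycles hα hA hσ (by norm_num) ho (by norm_num)
  omega

theorem five_shape {σ : Perm α} (hσ : σ ∈ G) (ho : orderOf σ = 5) :
    σ.support.card = 10 ∧ ∃! a, σ a = a := by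
  obtain ⟨j, hj, hs, hle, -⟩ := two_le_cycles hα hA hσ Nat.prime_five ho (by norm_num)
  have h10 : σ.support.card = 10 := by omega
  refine ⟨h10, ?_⟩
  have hc : σ.supportᶜ.card = 1 := by rw [Finset.card_compl, hα, h10]
  obtain ⟨a, ha⟩ := Finset.card_eq_one.1 hc
  have hiff : ∀ b, σ b = b ↔ b = a := fun b => by
    have := Finset.ext_iff.1 ha b
    simpa [Finset.mem_compl] using this
  exact ⟨a, (hiff a).2 rfl, fun b hb => (hiff b).1 hb⟩

theorem three_shape {σ : Perm α} (hσ : σ ∈ G) (ho : orderOf σ = 3) :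
    σ.support.card = 6 ∨ σ.support.card = 9 := by
  obtain ⟨j, hj, hs, hle, -⟩ := two_le_cycles hα hA hσ Nat.prime_three ho (by norm_num)
  omega

theorem two_shape {σ : Perm α} (hσ : σ ∈ G) (ho : orderOf σ = 2) :
    4 ≤ σ.support.card ∧ σ.support.card ≤ 10 ∧ Even σ.support.card ∧
      Equiv.Perm.sign σ = (-1) ^ (σ.support.card / 2) := by
  obtain ⟨j, hj, hs, hle, hc⟩ := two_le_cycles hα hA hσ Nat.prime_two ho (by norm_num)
  refine ⟨by omega, by omega, ⟨j, by omega⟩, ?_⟩
  rw [sign_of_cycleType, hc, Multiset.sum_replicate, Multiset.card_replicate, smul_eq_mul, hs,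
    Nat.mul_div_cancel j two_pos, pow_add, mul_comm j 2, pow_mul, neg_one_sq, one_pow, one_mul]

theorem even_invol {σ : Perm α} (hσ : σ ∈ G) (ho : orderOf σ = 2) (hs : Equiv.Perm.sign σ = 1) :
    σ.support.card = 4 ∨ σ.support.card = 8 := by
  obtain ⟨h4, h10, ⟨j, hj⟩, hsgn⟩ := two_shape hα hA hσ ho
  rw [hs, hj, show (j + j) / 2 = j by omega] at hsgn
  have hev : Even j := by
    by_contra hodd
    rw [(Nat.not_even_iff_odd.1 hodd).neg_one_pow] at hsgn
    exact absurd hsgn (by decide)
  obtain ⟨i, hi⟩ := hev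
  omega

omit hα hA in
/-- A set invariant under `x`, of prime order, containing none of its fixed points. -/
theorem dvd_card_of_invariant {x : Perm α} {p : ℕ} [Fact p.Prime] (hx : x ^ p = 1) (S : Finset α)
    (hS : ∀ i, x i ∈ S ↔ i ∈ S) (hfix : ∀ i ∈ S, x i ≠ i) : p ∣ S.card := by
  have h := card_compl_support_modEq (p := p) (n := 1) (σ := x.subtypePerm hS) (by
    rw [pow_one]
    refine Equiv.ext fun i => Subtype.ext ?_
    rw [subtypePerm_pow]
    simp [hx])
  have he : (x.subtypePerm hS).supportᶜ = ∅ := by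
    ext i
    simp only [Finset.mem_compl, mem_support, Finset.notMem_empty, iff_false, not_not]
    exact fun h => hfix i i.2 (congrArg Subtype.val h)
  rw [he, Finset.card_empty, Fintype.card_coe] at h
  exact Nat.modEq_zero_iff_dvd.1 h.symm

/-- What commutes with an element of order five. -/
theorem commute_five {x y : Perm α} (hx : x ∈ G) (hxo : orderOf x = 5) (hc : Commute x y) :
    5 ∣ y.support.card ∧ y.support.card ≤ 10 := by
  haveI : Fact (Nat.Prime 5) := ⟨Nat.prime_five⟩
  obtain ⟨hs, a, ha, huniq⟩ := five_shape hα hA hx hxo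
  have hcomm : ∀ i, x (y i) = y (x i) := fun i => Equiv.ext_iff.1 hc i
  have hya : y a = a := huniq _ (show x (y a) = y a by rw [hcomm, ha])
  have hsub : y.support ⊆ x.support := fun i hi => by
    rw [mem_support] at hi ⊢
    intro h
    exact hi (by rw [huniq i h]; exact hya)
  refine ⟨dvd_card_of_invariant (p := 5) (x := x) ?_ y.support (fun i => ?_) (fun i hi => ?_),
    (Finset.card_le_card hsub).trans hs.le⟩
  · rw [← hxo]; exact pow_orderOf_eq_one x
  · rw [mem_support, mem_support, ← hcomm]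
    exact x.injective.ne_iff
  · exact mem_support.1 (hsub hi)

omit hα hA in
theorem support_card_le_sub_two [Nontrivial α] {σ : Perm α} {a b : α} (hab : a ≠ b) (ha : σ a = a)
    (hb : σ b = b) : σ.support.card + 2 ≤ Fintype.card α := by
  have h : σ.support ⊆ ({a, b} : Finset α)ᶜ := fun i hi => by
    rw [mem_support] at hi
    simp only [Finset.mem_compl, Finset.mem_insert, Finset.mem_singleton, not_or]
    exact ⟨fun e => hi (e ▸ ha), fun e => hi (e ▸ hb)⟩
  have h' := Finset.card_le_card h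
  rw [Finset.card_compl, Finset.card_pair hab] at h'
  have : 2 ≤ Fintype.card α := Fintype.one_lt_card
  omega

theorem not_twentyfive : ¬ 25 ∣ Nat.card G := by
  intro h
  haveI : Fact (Nat.Prime 5) := ⟨Nat.prime_five⟩
  haveI : Nontrivial α := Fintype.one_lt_card_iff_nontrivial.1 (by omega)
  obtain ⟨Q, hQ⟩ := Sylow.exists_subgroup_card_pow_prime 5 (show 5 ^ 2 ∣ Nat.card G from h)
  have hpg : IsPGroup 5 Q := IsPGroup.of_card hQ
  obtain ⟨a, ha⟩ : ∃ a : α, a ∈ fixedPoints Q α := by
    have hm := hpg.card_modEq_card_fixedPoints α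
    rw [Nat.card_eq_fintype_card (α := α), hα] at hm
    by_contra hne
    push Not at hne
    haveI : IsEmpty (fixedPoints Q α) := ⟨fun a => hne a a.2⟩
    rw [Nat.card_of_isEmpty] at hm
    simp [Nat.ModEq] at hm
  obtain ⟨b, hb⟩ := exists_ne a
  obtain ⟨q, q', hne, hqb⟩ : ∃ q q' : Q, q ≠ q' ∧ q • b = q' • b := by
    by_contra hno
    push Not at hno
    have := Nat.card_le_card_of_injective (fun q : Q => q • b)
      (fun q q' e => by_contra fun hne => hno q q' hne e)
    rw [hQ, Nat.card_eq_fintype_card (α := α), hα] at this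
    norm_num at this
  set r := q'⁻¹ * q
  have hr1 : r ≠ 1 := fun e => hne (inv_mul_eq_one.1 e).symm
  have hrb : r • b = b := by rw [mul_smul, hqb, inv_smul_smul]
  have hr25 : orderOf r ∣ 5 ^ 2 := hQ ▸ orderOf_dvd_natCard r
  obtain ⟨k, hk, hro⟩ := (Nat.dvd_prime_pow Nat.prime_five).1 hr25
  have hk0 : k ≠ 0 := fun e => hr1 (orderOf_eq_one_iff.1 (by rw [hro, e, pow_zero]))
  set s := r ^ 5 ^ (k - 1)
  have hs : orderOf s = 5 := by
    rw [orderOf_pow' r (by positivity), hro,
      Nat.gcd_eq_right (pow_dvd_pow 5 (Nat.sub_le k 1)), Nat.pow_div (Nat.sub_le k 1) (by norm_num),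
      show k - (k - 1) = 1 by omega, pow_one]
  have hσ : orderOf (((s : Q) : G) : Perm α) = 5 := by
    rw [Subgroup.orderOf_coe, Subgroup.orderOf_coe, hs]
  obtain ⟨h10, -⟩ := five_shape hα hA ((s : Q) : G).2 hσ
  have hfixb : s • b = b := mem_stabilizer_iff.1
    ((stabilizer Q b).pow_mem (mem_stabilizer_iff.2 hrb) _)
  have hle := support_card_le_sub_two (σ := (((s : Q) : G) : Perm α)) hb.symm (ha s) hfixb
  omega

end CfsgLib.ElevenPts
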