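/-
The even part of an insoluble transitive group of degree eleven not containing the alternating
group: it is simple of order 660 or 7920.
-/
import Cfsg.Agent.ElevenPts.Elements
import Cfsg.Agent.GK7920.Tools

set_option autoImplicit false
set_option linter.style.haveILetI false
set_option linter.unusedSectionVars false

namespace CfsgLib.ElevenPts

open Equiv Equiv.Perm MulAction Subgroup

variable {α : Type*} [Fintype α] [DecidableEq α]

/-- The even permutations of `G`. -/
def evenPart (G : Subgroup (Perm α)) : Subgroup (Perm α) := G ⊓ alternatingGroup α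

theorem mem_evenPart {G : Subgroup (Perm α)} {σ : Perm α} :
    σ ∈ evenPart G ↔ σ ∈ G ∧ Equiv.Perm.sign σ = 1 := by
  rw [evenPart, mem_inf, mem_alternatingGroup]

theorem sign_ker (G : Subgroup (Perm α)) :
    (Equiv.Perm.sign.comp G.subtype).ker = (evenPart G).subgroupOf G := by
  ext g
  simp [mem_subgroupOf, mem_evenPart]

theorem card_evenPart (G : Subgroup (Perm α)) :
    ∃ i, (i = 1 ∨ i = 2) ∧ Nat.card G = Nat.card (evenPart G) * i ∧ (i = 1 → evenPart G = G) := by
  set f := Equiv.Perm.sign.comp G.subtype
  have h := f.ker.card_mul_index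
  rw [index_ker, show Nat.card f.ker = Nat.card (evenPart G) by
    rw [sign_ker]
    exact Nat.card_congr (subgroupOfEquivOfLe inf_le_left).toEquiv] at h
  have hle : Nat.card f.range ∣ 2 := by
    have := card_subgroup_dvd_card f.range
    rwa [Nat.card_eq_fintype_card (α := ℤˣ), Fintype.card_units_int] at this
  refine ⟨Nat.card f.range, (Nat.dvd_prime Nat.prime_two).1 hle, h.symm, fun h1 => ?_⟩
  refine SetLike.coe_injective (Set.eq_of_subset_of_ncard_le (fun x hx => (mem_evenPart.1 hx).1) ?_ (Set.toFinite _))
  rw [← Nat.card_coe_set_eq, ← Nat.card_coe_set_eq]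
  exact (show Nat.card G = Nat.card (evenPart G) by rw [← h, h1, mul_one]).le

variable (hα : Fintype.card α = 11) (G : Subgroup (Perm α)) [IsPretransitive G α]
include hα

theorem card_dvd (K : Subgroup (Perm α)) : Nat.card K ∣ 39916800 := by
  have := card_subgroup_dvd_card K
  rwa [Nat.card_eq_fintype_card (α := Perm α), Fintype.card_perm, hα,
    show Nat.factorial 11 = 39916800 by decide +kernel] at this

theorem exists_eleven : ∃ u : evenPart G, orderOf u = 11 := by
  haveI : Fact (Nat.Prime 11) := ⟨by norm_num⟩
  haveI : Nonempty α := Fintype.card_pos_iff.1 (by omega)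
  have hd : 11 ∣ Nat.card G := by
    have := index_dvd_card (stabilizer G (Classical.arbitrary α))
    rwa [index_stabilizer_of_transitive, Nat.card_eq_fintype_card, hα] at this
  obtain ⟨u, hu⟩ := exists_prime_orderOf_dvd_card' 11 hd
  have hu' : orderOf (u : Perm α) = 11 := by rw [Subgroup.orderOf_coe, hu]
  have hs : Equiv.Perm.sign (u : Perm α) = 1 := by
    have h : (Equiv.Perm.sign (u : Perm α)) ^ 11 = 1 := by
      rw [← map_pow, ← hu', pow_orderOf_eq_one, map_one]
    rcases Int.units_eq_one_or (Equiv.Perm.sign (u : Perm α)) with e | e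
    · exact e
    · rw [e] at h
      exact absurd h (by decide)
  exact ⟨⟨u, mem_evenPart.2 ⟨u.2, hs⟩⟩, by rw [← Subgroup.orderOf_coe]; exact hu'⟩

theorem isPretransitive_evenPart : IsPretransitive (evenPart G) α := by
  haveI : Fact (Nat.Prime 11) := ⟨by norm_num⟩
  obtain ⟨u, hu⟩ := exists_eleven hα G
  haveI := PermSimple.isPretransitive_of_card (α := α) (p := 11)
    (show Nat.card (zpowers u) = 11 by rw [Nat.card_zpowers, hu])
    (by rw [Nat.card_eq_fintype_card, hα])
  exact ⟨fun a b => by
    obtain ⟨q, hq⟩ := exists_smul_eq (zpowers u) a b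
    exact ⟨(q : evenPart G), hq⟩⟩

variable {G} (hA : ¬ alternatingGroup α ≤ G)
include hA

omit hα [IsPretransitive G α] in
theorem coe_mem (g : evenPart G) : (g : Perm α) ∈ G := g.2.1

/-- The normaliser of a Sylow `11`-subgroup in the even part is not of even order. -/
theorem no_inversion {u z : evenPart G} (hu : orderOf u = 11) (hz : orderOf z = 2)
    (hn : z ∈ normalizer ((zpowers u : Subgroup (evenPart G)) : Set (evenPart G))) : False := by
  haveI : Fact (Nat.Prime 11) := ⟨by norm_num⟩
  haveI : Nontrivial α := Fintype.one_lt_card_iff_nontrivial.1 (by omega)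
  set P := zpowers u
  have hPc : Nat.card P = 11 := by rw [Nat.card_zpowers, hu]
  have hα' : Nat.card α = 11 := by rw [Nat.card_eq_fintype_card, hα]
  haveI := PermSimple.isPretransitive_of_card (α := α) (p := 11) hPc hα'
  have hC := PermSimple.centralizer_eq_of_card (α := α) (p := 11) hPc hα'
  have hs : (z : Perm α).support.card = 4 ∨ (z : Perm α).support.card = 8 :=
    even_invol hα hA z.2.1 (by rw [Subgroup.orderOf_coe, hz]) (mem_evenPart.1 z.2).2
  obtain ⟨a, ha, b, hb, hab⟩ := Finset.one_lt_card.1 (show 1 < (z : Perm α).supportᶜ.card by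
    rw [Finset.card_compl, hα]; omega)
  have hza : z • a = a := show (z : Perm α) a = a by simpa using ha
  have hzb : z • b = b := show (z : Perm α) b = b by simpa using hb
  have hinj : Function.Injective (fun q : P => q • a) :=
    ((Nat.bijective_iff_surjective_and_card _).2 ⟨fun c => exists_smul_eq P a c, by
      rw [hPc, hα']⟩).1
  obtain ⟨q, hq⟩ := exists_smul_eq P a b
  have hw : z * q * z⁻¹ ∈ P := ((mem_normalizer_iff.1 hn) q).1 q.2
  have hwa : (z * (q : evenPart G) * z⁻¹) • a = b := by
    rw [mul_smul, mul_smul, show z⁻¹ • a = a from inv_smul_eq_iff.2 hza.symm,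
      show (q : evenPart G) • a = b from hq, hzb]
  have heq : (⟨_, hw⟩ : P) = q := hinj (show (z * (q : evenPart G) * z⁻¹) • a = q • a from hwa.trans hq.symm)
  have hq1 : q ≠ 1 := fun e => hab (by rw [← hq, e, one_smul])
  have hzC : z ∈ centralizer (P : Set (evenPart G)) := mem_centralizer_iff.2 fun y hy => by
    have hzq : z * (q : evenPart G) = (q : evenPart G) * z :=
      mul_inv_eq_iff_eq_mul.1 (congrArg Subtype.val heq)
    obtain ⟨k, hk⟩ := mem_zpowers_iff.1 (mem_zpowers_of_prime_card (g' := (⟨y, hy⟩ : P)) hPc hq1)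
    have hy' : y = (q : evenPart G) ^ k := by
      rw [show y = (((⟨y, hy⟩ : P)) : evenPart G) from rfl, ← hk, Subgroup.coe_zpow]
    rw [hy']
    exact ((Commute.zpow_right (show Commute z (q : evenPart G) from hzq) k).eq).symm
  rw [hC] at hzC
  have := Cfsg.Agent.GK7920.orderOf_dvd_card hzC
  rw [hPc, hz] at this
  norm_num at this

variable (hG : ¬ Group.IsSolvable G)
include hG

theorem normal_eleven_false {u : evenPart G} (hu : orderOf u = 11)
    (hn : normalizer ((zpowers u : Subgroup (evenPart G)) : Set (evenPart G)) = ⊤) : False := by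
  haveI : Fact (Nat.Prime 11) := ⟨by norm_num⟩
  refine hG ?_
  set P := zpowers u
  have hPc : Nat.card P = 11 := by rw [Nat.card_zpowers, hu]
  haveI : P.Normal := normalizer_eq_top_iff.1 hn
  haveI hcomm : Group.IsSolvable P := Group.isSolvable_of_comm fun a b => by
    haveI : IsCyclic P := isCyclic_of_prime_card hPc
    exact IsCyclic.commutative.1.comm a b
  haveI : Group.IsSolvable (MulAut P) := Group.isSolvable_of_comm fun a b => by
    haveI : IsCyclic P := isCyclic_of_prime_card hPc
    apply (IsCyclic.mulAutMulEquiv P).injective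
    rw [map_mul, map_mul, mul_comm]
  haveI hH : Group.IsSolvable (evenPart G) := by
    refine Group.isSolvable_of_ker_le_range P.subtype (MulAut.conjNormal : evenPart G →* MulAut P) ?_
    intro h hh
    rw [Subgroup.range_subtype, ← PermSimple.centralizer_eq_of_card (α := α) (p := 11) hPc
      (by rw [Nat.card_eq_fintype_card, hα])]
    refine mem_centralizer_iff.2 fun y hy => ?_
    have := congrArg (fun e : MulAut P => ((e ⟨y, hy⟩ : P) : evenPart G)) (MonoidHom.mem_ker.1 hh)
    simp only [MulAut.conjNormal_apply, MulAut.one_apply] at this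
    exact (mul_inv_eq_iff_eq_mul.1 this).symm
  refine Group.isSolvable_of_ker_le_range (Subgroup.inclusion (show evenPart G ≤ G from inf_le_left))
    (Equiv.Perm.sign.comp G.subtype) ?_
  intro g hg
  rw [sign_ker, mem_subgroupOf] at hg
  exact ⟨⟨g, hg⟩, rfl⟩

/-- The basic structure. -/
theorem sylow_eleven : IsSimpleGroup (evenPart G) ∧
    ∃ n, Nat.card (evenPart G) = 55 * n ∧ n % 11 = 1 ∧ 1 < n := by
  haveI : Fact (Nat.Prime 11) := ⟨by norm_num⟩
  haveI := isPretransitive_evenPart hα G
  have hα' : Nat.card α = 11 := by rw [Nat.card_eq_fintype_card, hα]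
  haveI : IsPreprimitive (evenPart G) α := IsPreprimitive.of_prime_card (hα' ▸ by norm_num)
  set H := evenPart G
  obtain ⟨u, hu⟩ := exists_eleven hα G
  have h11 : 11 ∣ Nat.card H := hu ▸ orderOf_dvd_natCard u
  have hfac : (Nat.card H).factorization 11 = 1 := by
    have hne := (Nat.card_pos (α := H)).ne'
    have hp : Nat.Prime 11 := by norm_num
    have h1 := (hp.dvd_iff_one_le_factorization hne).1 h11
    have h2 : ¬ 2 ≤ (Nat.card H).factorization 11 := fun h => by
      have := ((hp.pow_dvd_iff_le_factorization hne).2 h).trans (card_dvd hα H)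
      norm_num at this
    omega
  let P : Sylow 11 H := Sylow.ofCard (zpowers u) (by rw [Nat.card_zpowers, hu, hfac, pow_one])
  have hPe : (P : Subgroup H) = zpowers u := Sylow.coe_ofCard _ _
  have hPc : Nat.card (P : Subgroup H) = 11 := by rw [hPe, Nat.card_zpowers, hu]
  set N := normalizer ((zpowers u : Subgroup H) : Set H) with hN
  have hC : Nat.card (centralizer ({u} : Set H)) = 11 := by
    rw [← Cfsg.Agent.GK7920.centralizer_zpowers, PermSimple.centralizer_eq_of_card (α := α) (p := 11)
      (by rw [Nat.card_zpowers, hu]) hα', Nat.card_zpowers, hu]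
  have hN110 : Nat.card N ∣ 110 := by
    have := Cfsg.Agent.GK7920.normalizer_dvd (p := 11) hu
    rwa [hC] at this
  have h11N : 11 ∣ Nat.card N := hu ▸ Cfsg.Agent.GK7920.orderOf_dvd_card (le_normalizer (mem_zpowers u))
  have hodd : ¬ 2 ∣ Nat.card N := fun h => by
    haveI : Fact (Nat.Prime 2) := ⟨Nat.prime_two⟩
    obtain ⟨z, hzN, hz⟩ := Cfsg.Agent.GK7920.exists_orderOf h
    exact no_inversion hα hA hu hz hzN
  obtain ⟨d, hd⟩ := h11N
  have hd10 : d ∣ 10 := by
    rw [hd, show 110 = 11 * 10 from rfl] at hN110
    exact Nat.dvd_of_mul_dvd_mul_left (by norm_num) hN110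
  have hn : Nat.card (Sylow 11 H) = N.index := P.card_eq_index_normalizer
  have hn1 : 1 < Nat.card (Sylow 11 H) := by
    rw [hn]
    rcases Nat.lt_or_ge 1 N.index with h | h
    · exact h
    · exact absurd ((index_eq_one (H := N)).1 (by have := index_ne_zero_of_finite (H := N); omega))
        (fun e => normal_eleven_false hα hA hG hu e)
  have hd15 : d = 1 ∨ d = 5 := by
    have : d ≤ 10 := Nat.le_of_dvd (by norm_num) hd10
    rw [hd] at hodd
    interval_cases d <;> first | omega | norm_num at hd10
  rcases hd15 with rfl | rfl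
  · exfalso
    have hNP : N = zpowers u := (eq_of_le_of_card_ge le_normalizer (by
      rw [hd, Nat.card_zpowers, hu])).symm
    have hNC : normalizer ((P : Subgroup H) : Set H) ≤ centralizer ((P : Subgroup H) : Set H) := by
      rw [hPe, ← hN, hNP, Cfsg.Agent.GK7920.centralizer_zpowers]
      exact zpowers_le.2 (mem_centralizer_singleton_iff.2 rfl)
    have hker : (MonoidHom.transferSylow P hNC).ker = ⊥ := by
      by_contra hne
      exact MonoidHom.not_dvd_card_ker_transferSylow P hNC
        (PermSimple.dvd_card_of_normal (α := α) (p := 11) (hα' ▸ dvd_rfl) hne)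
    have hidx := (MonoidHom.ker_transferSylow_isComplement' P hNC).symm.index_eq_card
    rw [hker, index_bot, hPc] at hidx
    rw [hn] at hn1
    have := N.card_mul_index
    rw [hd, hidx] at this
    omega
  · refine ⟨PermSimple.isSimpleGroup_of_prime_index (α := α) (hα' ▸ dvd_rfl) P hPc hn1 Nat.prime_five
      (by rw [hPe]; exact hd), Nat.card (Sylow 11 H), ?_, ?_, hn1⟩
    · rw [hn, ← N.card_mul_index, hd]
    · have := card_sylow_modEq_one (p := 11) (G := H)
      exact this

end CfsgLib.ElevenPts
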