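/-
The possible orders of the even part: 660 and 7920.
-/
import Cfsg.Agent.ElevenPts.Structure

set_option autoImplicit false
set_option linter.style.haveILetI false
set_option linter.unusedSectionVars false

namespace CfsgLib.ElevenPts

open Equiv Equiv.Perm MulAction Subgroup

variable {α : Type*} [Fintype α] [DecidableEq α] (hα : Fintype.card α = 11)
  {G : Subgroup (Perm α)} [IsPretransitive G α] (hA : ¬ alternatingGroup α ≤ G)
include hα hA

theorem not_dvd_five_sq (K : Subgroup (Perm α)) (hK : K ≤ G) : ¬ 25 ∣ Nat.card K :=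
  fun h => not_twentyfive hα hA (h.trans (card_dvd_of_le hK))

/-- An element of order five is self-centralising in the even part. -/
theorem card_centralizer_five {x : evenPart G} (hx : orderOf x = 5) :
    Nat.card (centralizer ({x} : Set (evenPart G))) = 5 := by
  set C := centralizer ({x} : Set (evenPart G))
  have hxC : x ∈ C := mem_centralizer_singleton_iff.2 rfl
  have hne := (Nat.card_pos (α := C)).ne'
  have hpow : Nat.card C = 5 ^ (Nat.card C).primeFactorsList.length := by
    refine Nat.eq_prime_pow_of_unique_prime_dvd hne fun {q} hq hqd => ?_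
    haveI : Fact q.Prime := ⟨hq⟩
    obtain ⟨y, hyC, hy⟩ := Cfsg.Agent.GK7920.exists_orderOf hqd
    have hy' : orderOf (y : Perm α) = q := by rw [Subgroup.orderOf_coe, hy]
    obtain ⟨h5, h10⟩ := commute_five hα hA x.2.1 (by rw [Subgroup.orderOf_coe, hx])
      (show Commute (x : Perm α) (y : Perm α) from
        congrArg Subtype.val (mem_centralizer_singleton_iff.1 hyC).symm)
    obtain ⟨j, hj, hs, hle, -⟩ := prime_shape hα hq hy'
    have hq11 : q ≤ 11 := le_trans (Nat.le_mul_of_pos_left q hj) hle
    by_contra hq5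
    interval_cases q <;> first | omega | (norm_num at hq; done) | skip
    · rcases even_invol hα hA y.2.1 hy' (mem_evenPart.1 y.2).2 with h | h <;> omega
  have h5 : 5 ∣ Nat.card C := hx ▸ Cfsg.Agent.GK7920.orderOf_dvd_card hxC
  generalize (Nat.card C).primeFactorsList.length = k at hpow
  match k, hpow with
  | 0, hpow => rw [pow_zero] at hpow; rw [hpow] at h5; norm_num at h5
  | 1, hpow => exact hpow.trans (pow_one 5)
  | k + 2, hpow =>
    exact absurd ((Dvd.intro_left _ (pow_add 5 k 2).symm).trans (hpow ▸ card_subgroup_dvd_card C))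
      (not_dvd_five_sq hα hA _ inf_le_left)

theorem card_normalizer_five_dvd {x : evenPart G} (hx : orderOf x = 5) :
    Nat.card (normalizer ((zpowers x : Subgroup (evenPart G)) : Set (evenPart G))) ∣ 20 := by
  haveI : Fact (Nat.Prime 5) := ⟨Nat.prime_five⟩
  have := Cfsg.Agent.GK7920.normalizer_dvd (p := 5) hx
  rwa [card_centralizer_five hα hA hx] at this

theorem index_normalizer_five {x : evenPart G} (hx : orderOf x = 5) :
    (normalizer ((zpowers x : Subgroup (evenPart G)) : Set (evenPart G))).index % 5 = 1 := by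
  haveI : Fact (Nat.Prime 5) := ⟨Nat.prime_five⟩
  have hfac : (Nat.card (evenPart G)).factorization 5 = 1 := by
    have hne := (Nat.card_pos (α := evenPart G)).ne'
    have h1 := (Nat.prime_five.dvd_iff_one_le_factorization hne).1 (hx ▸ orderOf_dvd_natCard x)
    have h2 : ¬ 2 ≤ (Nat.card (evenPart G)).factorization 5 := fun h =>
      not_dvd_five_sq hα hA (evenPart G) inf_le_left ((Nat.prime_five.pow_dvd_iff_le_factorization hne).2 h)
    omega
  let P : Sylow 5 (evenPart G) := Sylow.ofCard (zpowers x) (by rw [Nat.card_zpowers, hx, hfac, pow_one])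
  have h := card_sylow_modEq_one (p := 5) (G := evenPart G)
  rw [P.card_eq_index_normalizer] at h
  exact h

variable (hG : ¬ Group.IsSolvable G)
include hG

theorem card_cases : Nat.card (evenPart G) = 660 ∨ Nat.card (evenPart G) = 7920 := by
  haveI : Nontrivial α := Fintype.one_lt_card_iff_nontrivial.1 (by omega)
  obtain ⟨-, n, hn, hn11, hn1⟩ := sylow_eleven hα hA hG
  have halt : Nat.card (evenPart G) ∣ 19958400 := by
    have h := card_dvd_of_le (show evenPart G ≤ alternatingGroup α from inf_le_right)
    have h2 := two_mul_nat_card_alternatingGroup (α := α)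
    rw [Nat.card_eq_fintype_card (α := Perm α), Fintype.card_perm, hα,
      show Nat.factorial 11 = 39916800 by decide +kernel] at h2
    rwa [show Nat.card (alternatingGroup α) = 19958400 by omega] at h
  haveI : Fact (Nat.Prime 5) := ⟨Nat.prime_five⟩
  haveI : Fact (Nat.Prime 7) := ⟨by norm_num⟩
  have hn5 : ¬ 5 ∣ n := fun h => not_dvd_five_sq hα hA (evenPart G) inf_le_left
    (hn ▸ (Nat.mul_dvd_mul (show 5 ∣ 55 by norm_num) h))
  have hn7 : ¬ 7 ∣ n := fun h => by
    obtain ⟨y, hy⟩ := exists_prime_orderOf_dvd_card' (G := evenPart G) 7 (hn ▸ h.mul_left 55)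
    exact not_seven hα hA y.2.1 (by rw [Subgroup.orderOf_coe, hy])
  have hdvd : n ∣ 2 ^ 7 * 3 ^ 4 := by
    rw [hn, show 19958400 = 55 * (2 ^ 7 * 3 ^ 4 * (5 * 7)) by norm_num,
      Nat.mul_dvd_mul_iff_left (by norm_num)] at halt
    refine Nat.Coprime.dvd_of_dvd_mul_right ?_ halt
    exact Nat.Coprime.mul_right ((Nat.Prime.coprime_iff_not_dvd Nat.prime_five).2 hn5).symm
      ((Nat.Prime.coprime_iff_not_dvd (by norm_num)).2 hn7).symm
  obtain ⟨n₁, n₂, h1, h2, rfl⟩ := (Nat.dvd_mul).1 hdvd
  obtain ⟨a, ha, rfl⟩ := (Nat.dvd_prime_pow Nat.prime_two).1 h1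
  obtain ⟨b, hb, rfl⟩ := (Nat.dvd_prime_pow Nat.prime_three).1 h2
  have h5 : 5 ∣ Nat.card (evenPart G) := by rw [hn]; exact Dvd.dvd.mul_right (by norm_num) _
  obtain ⟨x, hx⟩ := exists_prime_orderOf_dvd_card' (G := evenPart G) 5 h5
  have hd := card_normalizer_five_dvd hα hA hx
  have hi := index_normalizer_five hα hA hx
  have hm := (normalizer ((zpowers x : Subgroup (evenPart G)) : Set (evenPart G))).card_mul_index
  rw [hn] at hm ⊢
  have hk : 5 ∣ Nat.card (normalizer ((zpowers x : Subgroup (evenPart G)) : Set (evenPart G))) :=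
    hx ▸ Cfsg.Agent.GK7920.orderOf_dvd_card (le_normalizer (mem_zpowers x))
  generalize (normalizer ((zpowers x : Subgroup (evenPart G)) : Set (evenPart G))).index = i at hm hi
  generalize Nat.card (normalizer ((zpowers x : Subgroup (evenPart G)) : Set (evenPart G))) = N
    at hm hd hk
  have hN : N = 5 ∨ N = 10 ∨ N = 20 := by
    have : N ≤ 20 := Nat.le_of_dvd (by norm_num) hd
    interval_cases N <;> omega
  interval_cases a <;> interval_cases b <;> first | omega | (rcases hN with rfl | rfl | rfl <;> omega)

/-- When the even part has order 660, its Sylow five normalisers have order ten. -/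
theorem card_normalizer_five (h660 : Nat.card (evenPart G) = 660) {x : evenPart G}
    (hx : orderOf x = 5) :
    Nat.card (normalizer ((zpowers x : Subgroup (evenPart G)) : Set (evenPart G))) = 10 := by
  have hd := card_normalizer_five_dvd hα hA hx
  have hi := index_normalizer_five hα hA hx
  have hm := (normalizer ((zpowers x : Subgroup (evenPart G)) : Set (evenPart G))).card_mul_index
  have hk : 5 ∣ Nat.card (normalizer ((zpowers x : Subgroup (evenPart G)) : Set (evenPart G))) :=
    hx ▸ Cfsg.Agent.GK7920.orderOf_dvd_card (le_normalizer (mem_zpowers x))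
  rw [h660] at hm
  generalize (normalizer ((zpowers x : Subgroup (evenPart G)) : Set (evenPart G))).index = i at hm hi
  generalize Nat.card (normalizer ((zpowers x : Subgroup (evenPart G)) : Set (evenPart G))) = N
    at hm hd hk ⊢
  have : N ≤ 20 := Nat.le_of_dvd (by norm_num) hd
  interval_cases N <;> omega

end CfsgLib.ElevenPts
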