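/-
No group of degree eleven has a simple group of order 660 or 7920 as a subgroup of index two.
-/
import Cfsg.Agent.ElevenPts.Orders

set_option autoImplicit false
set_option linter.style.haveILetI false
set_option linter.unusedSectionVars false

namespace CfsgLib.ElevenPts

open Equiv Equiv.Perm MulAction Subgroup

variable {α : Type*} [Fintype α] [DecidableEq α] (hα : Fintype.card α = 11)
  {G : Subgroup (Perm α)} [IsPretransitive G α] (hA : ¬ alternatingGroup α ≤ G)
include hα hA

omit hA in
theorem exists_frame {F : Finset α} (hF : F.card = 5) {a : α} (ha : a ∈ F) :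
    ∃ u : Fin 4 ↪ α, u 0 = a ∧ ∀ j, u j ∈ F := by
  let e := (F.equivFinOfCardEq hF).symm
  refine ⟨⟨fun j => (e (Equiv.swap 0 (e.symm ⟨a, ha⟩) j.castSucc) : F), ?_⟩, ?_, fun j => (e _).2⟩
  · intro i j h
    exact Fin.castSucc_injective _ ((Equiv.swap _ _).injective (e.injective (Subtype.val_injective h)))
  · change ((e (Equiv.swap 0 (e.symm ⟨a, ha⟩) (Fin.castSucc 0)) : F) : α) = a
    rw [Fin.castSucc_zero, Equiv.swap_apply_left, Equiv.apply_symm_apply]

/-- Index two over a sharply four-transitive even part is impossible. -/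
theorem not_double_sharp (h4 : IsMultiplyPretransitive (evenPart G) α 4)
    (hsharp : ∀ x : Fin 4 ↪ α, stabilizer (evenPart G) x = ⊥)
    (hH : Nat.card (evenPart G) = 7920) (hcard : Nat.card G = 15840) : False := by
  classical
  letI : MulAction G (Fin 4 ↪ α) := Function.Embedding.instMulAction
  have hsurj : ∀ x y : Fin 4 ↪ α, ∃ g : G, g • x = y := fun x y => by
    obtain ⟨g, hg⟩ := h4.exists_smul_eq x y
    exact ⟨⟨g, g.2.1⟩, hg⟩
  have hst : ∀ u : Fin 4 ↪ α, Nat.card (stabilizer G u) = 2 := fun u => by
    have h := (stabilizer G u).card_mul_index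
    rw [index_stabilizer, show orbit G u = Set.univ from Set.eq_univ_of_forall (fun y => hsurj u y),
      Set.ncard_univ, hcard, Nat.card_eq_fintype_card (α := Fin 4 ↪ α),
      Fintype.card_embedding_eq, hα, Fintype.card_fin] at h
    rw [show Nat.descFactorial 11 4 = 7920 by decide +kernel] at h
    omega
  have huniq : ∀ (u : Fin 4 ↪ α) (s t : G), s ≠ 1 → t ≠ 1 → s • u = u → t • u = u → s = t := by
    intro u s t hs ht hsu htu
    by_contra hne
    have h3 : 3 ≤ Nat.card (stabilizer G u) := by
      rw [← Nat.card_fin 3]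
      refine Nat.card_le_card_of_injective
        ![(1 : stabilizer G u), ⟨s, hsu⟩, ⟨t, htu⟩] ?_
      have hv : Subtype.val ∘ ![(1 : stabilizer G u), ⟨s, hsu⟩, ⟨t, htu⟩] = ![(1 : G), s, t] := by
        funext i; fin_cases i <;> rfl
      refine Function.Injective.of_comp (f := Subtype.val) (hv ▸ ?_)
      intro i j h
      fin_cases i <;> fin_cases j <;> first
        | rfl
        | exact absurd h hne
        | exact absurd h.symm hne
        | exact absurd h hs
        | exact absurd h.symm hs
        | exact absurd h ht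
        | exact absurd h.symm ht
    rw [hst u] at h3
    omega
  obtain ⟨u⟩ := Function.Embedding.nonempty_of_card_le (α := Fin 4) (β := α) (by simp [hα])
  haveI : Fact (Nat.Prime 2) := ⟨Nat.prime_two⟩
  obtain ⟨t, htu, ht⟩ := Cfsg.Agent.GK7920.exists_orderOf (show 2 ∣ Nat.card (stabilizer G u) by rw [hst u])
  have ht' : orderOf (t : Perm α) = 2 := by rw [Subgroup.orderOf_coe, ht]
  have hodd : Equiv.Perm.sign (t : Perm α) = -1 := by
    rcases Int.units_eq_one_or (Equiv.Perm.sign (t : Perm α)) with h | h
    · exfalso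
      let t' : evenPart G := ⟨t, mem_evenPart.2 ⟨t.2, h⟩⟩
      have : t' ∈ stabilizer (evenPart G) u := mem_stabilizer_iff.2 htu
      rw [hsharp u, Subgroup.mem_bot] at this
      have h1 : (t : Perm α) = 1 := congrArg Subtype.val this
      rw [h1, orderOf_one] at ht'
      omega
    · exact h
  obtain ⟨h4s, h10, ⟨j, hj⟩, hsgn⟩ := two_shape hα hA t.2 ht'
  set F := (t : Perm α).supportᶜ with hFdef
  have hFmem : ∀ i, i ∈ F ↔ t • i = i := fun i => by
    rw [hFdef, Finset.mem_compl, mem_support, not_not]; rfl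
  have hFu : ∀ i, u i ∈ F := fun i => (hFmem _).2
    (congrArg (fun e : Fin 4 ↪ α => e i) (mem_stabilizer_iff.1 htu))
  have hF4 : 4 ≤ F.card := by
    have := Finset.card_le_card_of_injOn (s := Finset.univ) (t := F) u
      (fun i _ => hFu i) u.injective.injOn
    simpa using this
  have hFc : F.card = 11 - (t : Perm α).support.card := by rw [hFdef, Finset.card_compl, hα]
  have hj3 : j = 3 := by
    rw [hodd, hj, show (j + j) / 2 = j by omega] at hsgn
    have : j ≤ 7 := by omega
    interval_cases j <;> first | omega | (exact absurd hsgn (by decide))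
  have hF5 : F.card = 5 := by omega
  set C := centralizer ({t} : Set G)
  have htrans : ∀ a ∈ F, ∀ b ∈ F, ∃ g ∈ C, g • a = b := by
    intro a ha b hb
    obtain ⟨p, hp0, hp⟩ := exists_frame hα hF5 ha
    obtain ⟨q, hq0, hq⟩ := exists_frame hα hF5 hb
    obtain ⟨g, hg⟩ := hsurj p q
    refine ⟨g, mem_centralizer_singleton_iff.2 ?_, ?_⟩
    · have htp : t • p = p := Function.Embedding.ext fun i => (hFmem _).1 (hp i)
      have htq : t • q = q := Function.Embedding.ext fun i => (hFmem _).1 (hq i)
      have ht1 : t ≠ 1 := fun e => by rw [e, orderOf_one] at ht; omega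
      refine mul_inv_eq_iff_eq_mul.1 (huniq q (g * t * g⁻¹) t ?_ ht1 ?_ htq)
      · exact fun e => ht1 (by simpa [mul_inv_eq_one] using e)
      · rw [← hg, mul_smul, mul_smul, inv_smul_smul, htp]
    · rw [← hp0, ← hq0, ← hg]; rfl
  obtain ⟨a, ha⟩ := Finset.card_pos.1 (show 0 < F.card by omega)
  have horb : orbit C a = (F : Set α) := by
    ext b
    constructor
    · rintro ⟨g, rfl⟩
      refine (hFmem _).2 ?_
      change t • (g : G) • a = (g : G) • a
      rw [smul_smul, (mem_centralizer_singleton_iff.1 g.2).symm, mul_smul, (hFmem a).1 ha]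
    · intro hb
      obtain ⟨g, hg, hgb⟩ := htrans a ha b hb
      exact ⟨⟨g, hg⟩, hgb⟩
  have h5 : 5 ∣ Nat.card C := by
    have := index_dvd_card (stabilizer C a)
    rwa [index_stabilizer, horb, Set.ncard_coe_finset, hF5] at this
  haveI : Fact (Nat.Prime 5) := ⟨Nat.prime_five⟩
  obtain ⟨x, hxC, hx⟩ := Cfsg.Agent.GK7920.exists_orderOf h5
  obtain ⟨hd, -⟩ := commute_five hα hA x.2 (by rw [Subgroup.orderOf_coe, hx])
    (show Commute (x : Perm α) (t : Perm α) from
      congrArg Subtype.val (mem_centralizer_singleton_iff.1 hxC))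
  omega

end CfsgLib.ElevenPts
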