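/-
A simple group of order 7920 acting on eleven points is sharply four-transitive.
-/
import Cfsg.Agent.SmallSimple.M11Uniq.Main

set_option autoImplicit false
set_option linter.style.haveILetI false
set_option linter.unusedSectionVars false

namespace CfsgLib.ElevenPts

open Subgroup MulAction CfsgLib.Order7920 CfsgLib.Order7920Classes CfsgLib.FixedPoints
  CfsgLib.M11Uniq CfsgLib.M11Uniq.Eleven

/-- The three standard generators as functions. -/
def gen : Fin 3 → ZMod 11 → ZMod 11 := ![fun i => i + 1, fun i => 3 * i, fun i => vfun 1 6 i]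

/-- The value of a word in the generators. -/
def eval (w : List (Fin 3)) (i : ZMod 11) : ZMod 11 := w.foldr gen i

/-- Words fixing the first `k` labels and sending the next one anywhere else. -/
def wordTable : List (List (List (Fin 3))) :=
  [[[], [0], [0, 0], [1, 0], [0, 1, 0], [0, 0, 1, 0], [1, 0, 0], [0, 1, 0, 0], [0, 0, 1, 0, 0], [1, 1, 0], [2, 1, 0, 0]],
    [[], [], [2, 0, 0, 2, 0, 0, 0], [1], [2, 1, 1], [1, 1, 1], [0, 2, 1, 0, 0, 1], [0, 0, 2, 0, 0, 0], [0, 2, 1, 0, 2, 0], [1, 1], [0, 2, 2, 0, 0, 1]],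
    [[], [], [], [1, 1, 0, 2, 2, 0, 0], [0, 2, 0, 1, 1, 1, 0], [2, 0, 2, 0, 1, 1, 1, 0], [2], [2, 2, 2], [0, 0, 2, 2, 2, 0, 1, 0], [0, 0, 2, 1, 0, 2], [2, 2]],
    [[], [], [], [], [1, 0, 2, 0, 1, 2, 0, 0, 0], [2, 2, 2, 0, 0, 2, 1, 0], [0, 2, 1, 0, 0, 2, 1, 2], [0, 0, 2, 1, 0, 2, 2], [0, 2, 2, 0, 0, 2, 1], [0, 0, 2, 2, 1, 2, 0, 0, 2, 0], [1, 2, 0, 0, 1, 2, 2, 0, 1, 0]]]

theorem wordTable_spec : ∀ (k : Fin 4) (t : ZMod 11), (k : ℕ) ≤ t.val →
    (∀ j : Fin 4, j < k → eval ((wordTable.getD k []).getD t.val []) (j : ℕ) = ((j : ℕ) : ZMod 11)) ∧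
      eval ((wordTable.getD k []).getD t.val []) (k : ℕ) = t := by
  decide +kernel

theorem exists_of_word {G α : Type*} [Group G] [MulAction G α] {f : ZMod 11 → α}
    (hf : ∀ k : Fin 3, ∃ a : G, ∀ i, a • f i = f (gen k i))
    (w : List (Fin 3)) : ∃ a : G, ∀ i, a • f i = f (eval w i) := by
  induction w with
  | nil => exact ⟨1, fun i => one_smul _ _⟩
  | cons k w ih =>
    obtain ⟨a, ha⟩ := ih
    obtain ⟨b, hb⟩ := hf k
    exact ⟨b * a, fun i => by rw [mul_smul, ha, hb]; rfl⟩

variable {G : Type*} [Group G] [Finite G] [IsSimpleGroup G] (hG : Nat.card G = 7920)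
  {α : Type*} [Fintype α] [MulAction G α] [FaithfulSMul G α] [IsPretransitive G α]
  (hα : Fintype.card α = 11)
include hG hα

/-- A labelling in which the standard generators act. -/
theorem exists_chart : ∃ f : ZMod 11 → α, Function.Bijective f ∧
    ∀ k : Fin 3, ∃ a : G, ∀ i, a • f i = f (gen k i) := by
  classical
  haveI : Fact (Nat.Prime 11) := ⟨by norm_num⟩
  haveI : Fact (Nat.Prime 5) := ⟨by norm_num⟩
  have hα' : Nat.card α = 11 := by rw [Nat.card_eq_fintype_card, hα]
  obtain ⟨x, hx⟩ := exists_prime_orderOf_dvd_card' 11 (show 11 ∣ Nat.card G by rw [hG]; norm_num)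
  have hx11 : x ^ 11 = 1 := by rw [← hx]; exact pow_orderOf_eq_one x
  obtain ⟨g, hg⟩ := isConj_iff.1 (eleven_isConj hG hx)
  have hgN : g ∈ normalizer ((zpowers x : Subgroup G) : Set G) :=
    mem_normalizer_zpowers (hg ▸ pow_mem (mem_zpowers x) 3)
  have hg55 : g ^ 55 = 1 := by
    have h := orderOf_mem_dvd hgN
    rw [(eleven hG hx).2] at h
    exact orderOf_dvd_iff_pow_eq_one.1 h
  have hiter : ∀ m : ℕ, g ^ m * x * (g ^ m)⁻¹ = x ^ (3 ^ m) := by
    intro m
    induction m with
    | zero => simp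
    | succ m ih =>
      calc g ^ (m + 1) * x * (g ^ (m + 1))⁻¹ = g * (g ^ m * x * (g ^ m)⁻¹) * g⁻¹ := by
            rw [pow_succ']; group
        _ = (g * x * g⁻¹) ^ (3 ^ m) := by rw [ih, conj_pow]
        _ = _ := by rw [hg, ← pow_mul, ← pow_succ']
  set y := g ^ 11 with hy_def
  have hyx : y * x * y⁻¹ = x ^ 3 := by
    rw [hiter, ← pow_mod_orderOf, hx]
    norm_num
  have hy5 : orderOf y = 5 := by
    refine orderOf_eq_prime (by rw [hy_def, ← pow_mul]; exact hg55) fun h => ?_
    rw [h, one_mul, inv_one, mul_one] at hyx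
    have h2 : x ^ 2 = 1 := mul_left_cancel (a := x) (by rw [← pow_succ', mul_one]; exact hyx.symm)
    have := orderOf_dvd_of_pow_eq_one h2
    rw [hx] at this
    norm_num at this
  -- `x` fixes no point
  have hxfix : ∀ (ω : α) (m : ℕ), ¬ 11 ∣ m → x ^ m • ω ≠ ω := by
    intro ω m hm he
    have h2 := orderOf_mem_dvd (MulAction.mem_stabilizer_iff.2 he)
    have hst : Nat.card (MulAction.stabilizer G ω) = 720 := by
      have := (MulAction.stabilizer G ω).card_mul_index
      rw [MulAction.index_stabilizer_of_transitive, hα', hG] at this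
      omega
    rw [hst, orderOf_pow, hx, Nat.Coprime.gcd_eq_one
          ((Nat.Prime.coprime_iff_not_dvd (by norm_num)).2 hm), Nat.div_one] at h2
    norm_num at h2
  obtain ⟨b, hb⟩ : ∃ b : α, y • b = b := by
    by_contra h
    push Not at h
    have h2 := Equiv.Perm.card_compl_support_modEq (p := 5) (n := 1)
      (σ := MulAction.toPermHom G (α) y)
      (by rw [pow_one, ← map_pow, ← hy5, pow_orderOf_eq_one, map_one])
    have he : ((MulAction.toPermHom G (α) y).support)ᶜ = (∅ : Finset _) := by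
      ext W
      simp only [Finset.mem_compl, Equiv.Perm.mem_support, not_not, Finset.notMem_empty, iff_false]
      exact h W
    rw [he, Finset.card_empty, ← Nat.card_eq_fintype_card, hα'] at h2
    simp [Nat.ModEq] at h2
  -- the labelling
  let f : ZMod 11 → α := fun i => x ^ i.val • b
  have hpow : ∀ {m m' : ℕ}, (m : ZMod 11) = (m' : ZMod 11) → x ^ m = x ^ m' := fun {m m'} h =>
    pow_eq_pow_iff_modEq.2 (by rw [hx]; exact (ZMod.natCast_eq_natCast_iff _ _ _).1 h)
  have hf : Function.Injective f := by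
    intro i j h
    by_contra hne
    refine hxfix b ((i - j).val) ?_ ?_
    · intro hd
      refine hne (sub_eq_zero.1 ?_)
      rw [← ZMod.natCast_zmod_val (i - j)]
      exact (ZMod.natCast_eq_zero_iff _ _).2 hd
    · refine smul_left_cancel (x ^ j.val) ?_
      rw [smul_smul, ← pow_add]
      rw [hpow (m := j.val + (i - j).val) (m' := i.val) (by push_cast [ZMod.natCast_zmod_val]; ring)]
      exact h
  have hbij : Function.Bijective f := (Fintype.bijective_iff_injective_and_card f).2 ⟨hf, by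
    rw [← Nat.card_eq_fintype_card, ← Nat.card_eq_fintype_card, hα', Nat.card_zmod]⟩
  let e := Equiv.ofBijective f hbij
  let ι : G →* Equiv.Perm (ZMod 11) :=
    e.symm.permCongrHom.toMonoidHom.comp (MulAction.toPermHom G (α))
  have hinj : Function.Injective ι :=
    e.symm.permCongrHom.injective.comp (MulAction.toPerm_injective (α := G) (β := α))
  have hι : ∀ (a : G) (i j : ZMod 11), a • f i = f j → ι a i = j := fun a i j h => by
    change e.symm (a • e i) = j
    rw [Equiv.symm_apply_eq]
    exact h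
  have hιx : ι x = c0 := Equiv.ext fun i => hι x i _ (by
    change x • (x ^ i.val • b) = x ^ (i + 1).val • b
    rw [smul_smul, ← pow_succ']
    congr 1
    exact hpow (by push_cast [ZMod.natCast_zmod_val]; ring))
  have hyconj : ∀ m : ℕ, y * x ^ m = x ^ (3 * m) * y := fun m => by
    rw [pow_mul, ← hyx, conj_pow, inv_mul_cancel_right]
  have hιy : ι y = y0 := Equiv.ext fun i => hι y i _ (by
    change y • (x ^ i.val • b) = x ^ (3 * i).val • b
    rw [smul_smul, hyconj, mul_smul, hb]
    congr 1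
    exact hpow (by push_cast [ZMod.natCast_zmod_val]; ring))
  -- an element inducing squaring on `⟨y⟩`
  obtain ⟨v, hv⟩ := isConj_iff.1 (five_isConj hG hy5 (j := 2) (by norm_num))
  have hv3 : ∀ i, ι v (3 * i) = 9 * ι v i := fun i => by
    have h : ι v * ι y = ι y ^ 2 * ι v := by
      rw [← map_pow, ← map_mul, ← map_mul, ← hv, inv_mul_cancel_right]
    rw [hιy] at h
    have h2 := Equiv.Perm.ext_iff.1 h i
    simp only [Equiv.Perm.mul_apply, sq] at h2
    change ι v (y0 i) = _
    rw [h2]
    change 3 * (3 * ι v i) = _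
    rw [← mul_assoc]
    congr 1
  have hv0 : ι v 0 = 0 := by
    have h := hv3 0
    rw [mul_zero] at h
    have h2 : (8 : ZMod 11) * ι v 0 = 0 := by linear_combination -h
    exact (mul_eq_zero.1 h2).resolve_left fun h8 =>
      (show ¬ ((8 : Fin 11) = 0) by decide) h8
  have hvf : ⇑(ι v) = vfun (ι v 1) (ι v 2) := eq_vfun hv0 hv3
  have hcls := classified_all
  simp only [List.all_eq_true] at hcls
  have hc := hcls (ι v 1) (mem_univList _) (ι v 2) (mem_univList _)
  simp only [classified, Bool.or_eq_true, List.any_eq_true, Bool.and_eq_true, bne_iff_ne,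
    beq_iff_eq, List.all_eq_true] at hc
  rcases hc with (⟨i, -, j, -, hij, he⟩ | ⟨i, -, n, hn, hord⟩) | ⟨m, -, m', -, hmm, hm⟩
  · rw [← hvf] at he
    exact absurd ((ι v).injective he) hij
  · have hn0 : 0 < n := by
      simp only [List.mem_cons, List.not_mem_nil, or_false] at hn
      omega
    have h := orderOf_of_isOrd (p := ι (x ^ i.val * v))
      (f := fun z => vfun (ι v 1) (ι v 2) z + i) (fun z => by
        rw [map_mul, map_pow, hιx, Equiv.Perm.mul_apply, c0_pow, ZMod.natCast_zmod_val]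
        exact congrArg (· + i) (congrFun hvf z)) hn0 hord
    rw [orderOf_injective ι hinj] at h
    exact absurd h (no_bad_order hG hn _)
  · let g₀ : ZMod 11 → α := fun i => f (m' * i)
    have hmm' : m' * m = 1 := by rw [mul_comm]; exact hmm
    have hg₀ : Function.Bijective g₀ := hbij.comp (Finite.injective_iff_bijective.1 fun i j h => by
      have := congrArg (m * ·) h
      simpa only [← mul_assoc, hmm, one_mul] using this)
    have hι' : ∀ (a : G) (i : ZMod 11), a • f i = f (ι a i) := fun a i => by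
      change a • e i = e (e.symm (a • e i))
      rw [Equiv.apply_symm_apply]
    refine ⟨g₀, hg₀, fun k => ?_⟩
    fin_cases k
    · refine ⟨x ^ m'.val, fun i => ?_⟩
      change x ^ m'.val • f (m' * i) = f (m' * (i + 1))
      rw [hι', map_pow, hιx, c0_pow, ZMod.natCast_zmod_val, mul_add, mul_one]
    · refine ⟨y, fun i => ?_⟩
      change y • f (m' * i) = f (m' * (3 * i))
      rw [hι', hιy]
      congr 1
      change 3 * (m' * i) = m' * (3 * i)
      ring
    · refine ⟨v, fun i => ?_⟩
      change v • f (m' * i) = f (m' * vfun 1 6 i)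
      rw [hι', hvf, ← hm i (mem_univList i), ← mul_assoc, hmm', one_mul]

/-- The group is sharply four-transitive. -/
theorem sharply_four : IsMultiplyPretransitive G α 4 ∧
    ∀ x : Fin 4 ↪ α, stabilizer G x = ⊥ := by
  classical
  obtain ⟨f, hbij, hgen⟩ := exists_chart hG hα
  let std : Fin 4 ↪ α := ⟨fun j => f (j : ℕ), fun i j h => by
    have h' := congrArg ZMod.val (hbij.1 h)
    have hi : (i : ℕ) < 11 := by omega
    have hj : (j : ℕ) < 11 := by omega
    rw [ZMod.val_natCast, ZMod.val_natCast, Nat.mod_eq_of_lt hi, Nat.mod_eq_of_lt hj] at h'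
    exact Fin.ext h'⟩
  have hreach : ∀ z : Fin 4 ↪ α, ∀ k : ℕ, k ≤ 4 →
      ∃ a : G, ∀ j : Fin 4, (j : ℕ) < k → a • std j = z j := by
    intro z k
    induction k with
    | zero => exact fun _ => ⟨1, fun j hj => absurd hj (Nat.not_lt_zero _)⟩
    | succ k ih =>
      intro hk
      obtain ⟨a, ha⟩ := ih (by omega)
      obtain ⟨t, ht⟩ := hbij.2 (a⁻¹ • z ⟨k, by omega⟩)
      have hkt : k ≤ t.val := by
        by_contra hlt
        have hz : z ⟨k, by omega⟩ = z ⟨t.val, by omega⟩ := by
          rw [← ha ⟨t.val, by omega⟩ (by omega : t.val < k)]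
          change _ = a • f ((t.val : ℕ) : ZMod 11)
          rw [ZMod.natCast_zmod_val, ht, smul_inv_smul]
        have := congrArg Fin.val (z.injective hz)
        simp only at this
        omega
      obtain ⟨h1, h2⟩ := wordTable_spec ⟨k, by omega⟩ t hkt
      obtain ⟨b, hb⟩ := exists_of_word hgen ((wordTable.getD k []).getD t.val [])
      refine ⟨a * b, fun j hj => ?_⟩
      rw [mul_smul]
      change a • b • f ((j : ℕ) : ZMod 11) = _
      rw [hb]
      rcases Nat.lt_or_ge (j : ℕ) k with hlt | hge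
      · rw [h1 j (by exact hlt)]
        exact ha j hlt
      · obtain rfl : (j : ℕ) = k := by omega
        exact (congrArg (fun i => a • f i) h2).trans (by rw [ht, smul_inv_smul])
  have hmove : ∀ z : Fin 4 ↪ α, ∃ a : G, a • std = z := fun z => by
    obtain ⟨a, ha⟩ := hreach z 4 le_rfl
    exact ⟨a, Function.Embedding.ext fun j => ha j j.2⟩
  have htrans : IsPretransitive G (Fin 4 ↪ α) := ⟨fun x z => by
    obtain ⟨a, ha⟩ := hmove x
    obtain ⟨b, hb⟩ := hmove z
    exact ⟨b * a⁻¹, by rw [mul_smul, ← ha, inv_smul_smul, hb]⟩⟩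
  refine ⟨htrans, fun x => ?_⟩
  haveI := htrans
  have hc := (stabilizer G x).card_mul_index
  rw [index_stabilizer_of_transitive, hG, Nat.card_eq_fintype_card (α := Fin 4 ↪ α),
    Fintype.card_embedding_eq, hα, Fintype.card_fin] at hc
  refine Subgroup.eq_bot_of_card_eq _ ?_
  simpa [Nat.descFactorial] using hc

end CfsgLib.ElevenPts
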