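/-
No transitive group of degree eleven of order 1320 has a simple even part of order 660.
-/
import Cfsg.Agent.ElevenPts.Orders

set_option autoImplicit false
set_option linter.style.haveILetI false
set_option linter.unusedSectionVars false

namespace CfsgLib.ElevenPts

open Equiv Equiv.Perm MulAction Subgroup

theorem mem_normalizer_of_conj_eq {Γ : Type*} [Group Γ] {X : Subgroup Γ} {g : Γ}
    (h : X.map (MulAut.conj g).toMonoidHom = X) : g ∈ normalizer (X : Set Γ) := by
  refine mem_normalizer_iff.2 fun y => ⟨fun hy => ?_, fun hy => ?_⟩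
  · rw [← h]
    exact ⟨y, hy, rfl⟩
  · rw [← h] at hy
    obtain ⟨y', hy', he⟩ := hy
    rwa [show y = y' from (MulAut.conj g).injective (he.symm : g * y * g⁻¹ = g * y' * g⁻¹)]

variable {α : Type*} [Fintype α] [DecidableEq α] (hα : Fintype.card α = 11)
  {G : Subgroup (Perm α)} [IsPretransitive G α] (hA : ¬ alternatingGroup α ≤ G)
  (hG : ¬ Group.IsSolvable G)
include hα hA hG

/-- A commuting pair of elements of orders five and two fixing a common point, the second fixing
no other point. -/
theorem exists_pair (hcard : Nat.card G = 1320) :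
    ∃ (a : α) (x z : G), orderOf x = 5 ∧ orderOf z = 2 ∧ x * z = z * x ∧ x • a = a ∧ z • a = a ∧
      ∀ b, z • b = b → b = a := by
  haveI : Fact (Nat.Prime 11) := ⟨by norm_num⟩
  have hα' : Nat.card α = 11 := by rw [Nat.card_eq_fintype_card, hα]
  obtain ⟨u, hu⟩ := exists_prime_orderOf_dvd_card' (G := G) 11 (by rw [hcard]; norm_num)
  set U := zpowers u
  have hPc : Nat.card U = 11 := by rw [Nat.card_zpowers, hu]
  haveI := PermSimple.isPretransitive_of_card (α := α) (p := 11) hPc hα'
  have hC := PermSimple.centralizer_eq_of_card (α := α) (p := 11) hPc hα'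
  set N := normalizer ((U : Subgroup G) : Set G)
  have hN : Nat.card N = 110 := by
    have h1 := Cfsg.Agent.GK7920.normalizer_dvd (p := 11) hu
    rw [← Cfsg.Agent.GK7920.centralizer_zpowers, hC, hPc] at h1
    have hfac : (Nat.card G).factorization 11 = 1 := by
      have hne := (Nat.card_pos (α := G)).ne'
      have h2 := ((show Nat.Prime 11 by norm_num).dvd_iff_one_le_factorization hne).1
        (hu ▸ orderOf_dvd_natCard u)
      have h3 : ¬ 2 ≤ (Nat.card G).factorization 11 := fun h => by
        have := ((show Nat.Prime 11 by norm_num).pow_dvd_iff_le_factorization hne).2 h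
        rw [hcard] at this
        norm_num at this
      omega
    let P : Sylow 11 G := Sylow.ofCard U (by rw [hPc, hfac, pow_one])
    have h4 := card_sylow_modEq_one (p := 11) (G := G)
    rw [P.card_eq_index_normalizer] at h4
    have h4' : N.index % 11 = 1 := h4
    have h5 := N.card_mul_index
    have h6 : 11 ∣ Nat.card N := hPc ▸ card_dvd_of_le le_normalizer
    have h7 : Nat.card N ≤ 110 := Nat.le_of_dvd (by norm_num) h1
    rw [hcard] at h5
    obtain ⟨d, hd⟩ := h6
    have : d ≤ 10 := by omega
    rw [hd] at h5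
    interval_cases d <;> omega
  haveI : IsPretransitive N α := ⟨fun a b => by
    obtain ⟨q, hq⟩ := exists_smul_eq U a b
    exact ⟨⟨q, le_normalizer q.2⟩, hq⟩⟩
  obtain ⟨a⟩ : Nonempty α := Fintype.card_pos_iff.1 (by omega)
  set S := stabilizer N a
  have hS : Nat.card S = 10 := by
    have := S.card_mul_index
    rw [index_stabilizer_of_transitive, hα', hN] at this
    omega
  have hinj : Function.Injective (fun q : U => q • a) :=
    ((Nat.bijective_iff_surjective_and_card _).2 ⟨fun c => exists_smul_eq U a c, by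
      rw [hPc, hα']⟩).1
  have hfree : ∀ g : G, g ∈ U → g • a = a → g = 1 := fun g hg h => by
    have := @hinj ⟨g, hg⟩ 1 (by simpa using h)
    exact congrArg Subtype.val this
  have hcomm : ∀ r s : S, r * s = s * r := by
    intro r s
    let f := normalizerMonoidHom U
    haveI : IsCyclic U := isCyclic_of_prime_card hPc
    have hA : f (r : N) * f (s : N) = f (s : N) * f (r : N) := by
      apply (IsCyclic.mulAutMulEquiv U).injective
      rw [map_mul, map_mul, mul_comm]
    have hk : ((r : N) * s * (r : N)⁻¹ * (s : N)⁻¹) ∈ f.ker := by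
      rw [MonoidHom.mem_ker, map_mul, map_mul, map_mul, map_inv, map_inv, hA]
      group
    rw [normalizerMonoidHom_ker, mem_subgroupOf, hC] at hk
    have h1 := hfree _ hk
      (mem_stabilizer_iff.1 (S.mul_mem (S.mul_mem (S.mul_mem r.2 s.2) (S.inv_mem r.2)) (S.inv_mem s.2)))
    have h2 : (r : N) * s * (r : N)⁻¹ * (s : N)⁻¹ = 1 := Subtype.ext h1
    refine Subtype.ext ?_
    rw [Subgroup.coe_mul, Subgroup.coe_mul]
    exact mul_inv_eq_iff_eq_mul.1 (mul_inv_eq_one.1 h2)
  haveI : Fact (Nat.Prime 5) := ⟨Nat.prime_five⟩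
  haveI : Fact (Nat.Prime 2) := ⟨Nat.prime_two⟩
  obtain ⟨x, hx⟩ := exists_prime_orderOf_dvd_card' (G := S) 5 (by rw [hS]; norm_num)
  obtain ⟨z, hz⟩ := exists_prime_orderOf_dvd_card' (G := S) 2 (by rw [hS]; norm_num)
  refine ⟨a, ((x : N) : G), ((z : N) : G), by rw [Subgroup.orderOf_coe, Subgroup.orderOf_coe, hx],
    by rw [Subgroup.orderOf_coe, Subgroup.orderOf_coe, hz],
    congrArg (fun w : S => ((w : N) : G)) (hcomm x z), x.2, z.2, fun b hzb => ?_⟩
  by_contra hba
  set w : G := ((z : N) : G)
  have hwa : w • a = a := z.2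
  obtain ⟨q, hq⟩ := exists_smul_eq U a b
  have hqU : w * (q : G) * w⁻¹ ∈ U := ((mem_normalizer_iff.1 (z : N).2) _).1 q.2
  have heq : (⟨_, hqU⟩ : U) = q := hinj (show (w * (q : G) * w⁻¹) • a = q • a by
    rw [mul_smul, mul_smul, show w⁻¹ • a = a from inv_smul_eq_iff.2 hwa.symm,
      show (q : G) • a = b from hq, hzb, hq])
  have hq1 : q ≠ 1 := fun e => hba (by rw [← hq, e, one_smul])
  have hwC : w ∈ centralizer (U : Set G) := mem_centralizer_iff.2 fun y hy => by
    have hwq : w * (q : G) = (q : G) * w := mul_inv_eq_iff_eq_mul.1 (congrArg Subtype.val heq)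
    obtain ⟨k, hk⟩ := mem_zpowers_iff.1 (mem_zpowers_of_prime_card (g' := (⟨y, hy⟩ : U)) hPc hq1)
    have hy' : y = (q : G) ^ k := by
      rw [show y = (((⟨y, hy⟩ : U)) : G) from rfl, ← hk, Subgroup.coe_zpow]
    rw [hy']
    exact ((Commute.zpow_right (show Commute w (q : G) from hwq) k).eq).symm
  rw [hC] at hwC
  have := Cfsg.Agent.GK7920.orderOf_dvd_card hwC
  rw [hPc, show orderOf w = 2 by rw [Subgroup.orderOf_coe, Subgroup.orderOf_coe, hz]] at this
  norm_num at this

theorem not_order_1320 (h660 : Nat.card (evenPart G) = 660) (hcard : Nat.card G = 1320) : False := by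
  classical
  obtain ⟨a, x, z, hx, hz, hxz, hxa, hza, hzfix⟩ := exists_pair hα hA hG hcard
  haveI : Fact (Nat.Prime 5) := ⟨Nat.prime_five⟩
  have hx' : orderOf (x : Perm α) = 5 := by rw [Subgroup.orderOf_coe, hx]
  have hz' : orderOf (z : Perm α) = 2 := by rw [Subgroup.orderOf_coe, hz]
  obtain ⟨-, a', ha', huniq⟩ := five_shape hα hA x.2 hx'
  have haa : a = a' := huniq a hxa
  have hxfix : ∀ b, x • b = b → b = a := fun b hb => (huniq b hb).trans haa.symm
  have hz2 : z * z = 1 := by rw [← sq, ← hz, pow_orderOf_eq_one]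
  have hxeven : Equiv.Perm.sign (x : Perm α) = 1 := by
    have h : (Equiv.Perm.sign (x : Perm α)) ^ 5 = 1 := by
      rw [← map_pow, ← hx', pow_orderOf_eq_one, map_one]
    rcases Int.units_eq_one_or (Equiv.Perm.sign (x : Perm α)) with e | e
    · exact e
    · rw [e] at h
      exact absurd h (by decide)
  have hzodd : Equiv.Perm.sign (z : Perm α) = -1 := by
    obtain ⟨-, -, -, hs⟩ := two_shape hα hA z.2 hz'
    have : (z : Perm α).supportᶜ = {a} := by
      ext b
      simp only [Finset.mem_compl, mem_support, not_not, Finset.mem_singleton]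
      exact ⟨fun h => hzfix b h, fun h => h ▸ hza⟩
    have h1 := congrArg Finset.card this
    rw [Finset.card_compl, hα, Finset.card_singleton] at h1
    rw [hs, show (z : Perm α).support.card = 10 by omega]
    decide
  set X := zpowers x
  set A := stabilizer G a
  have hA120 : Nat.card A = 120 := by
    have := A.card_mul_index
    rw [index_stabilizer_of_transitive, Nat.card_eq_fintype_card (α := α), hα, hcard] at this
    omega
  -- the six Sylow five subgroups of the stabiliser
  let x₀ : A := ⟨x, hxa⟩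
  let z₀ : A := ⟨z, hza⟩
  have hx₀ : orderOf x₀ = 5 := by rw [← Subgroup.orderOf_coe]; exact hx
  have hfacA : (Nat.card A).factorization 5 = 1 := by
    have hne := (Nat.card_pos (α := A)).ne'
    have h1 := (Nat.prime_five.dvd_iff_one_le_factorization hne).1 (by rw [hA120]; norm_num)
    have h2 : ¬ 2 ≤ (Nat.card A).factorization 5 := fun h => by
      have := (Nat.prime_five.pow_dvd_iff_le_factorization hne).2 h
      rw [hA120] at this
      norm_num at this
    omega
  let Q : Sylow 5 A := Sylow.ofCard (zpowers x₀) (by rw [Nat.card_zpowers, hx₀, hfacA, pow_one])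
  have hQc : ∀ R : Sylow 5 A, Nat.card (R : Subgroup A) = 5 := fun R => by
    rw [R.card_eq_multiplicity, hfacA, pow_one]
  have hxH : (x : Perm α) ∈ evenPart G := mem_evenPart.2 ⟨x.2, hxeven⟩
  have hn1 : Nat.card (Sylow 5 A) ≠ 1 := by
    intro h1
    rw [Q.card_eq_index_normalizer, index_eq_one] at h1
    let B := stabilizer (evenPart G) a
    haveI := isPretransitive_evenPart hα G
    have hB : Nat.card B = 60 := by
      have := B.card_mul_index
      rw [index_stabilizer_of_transitive, Nat.card_eq_fintype_card (α := α), hα, h660] at this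
      omega
    let xH : evenPart G := ⟨x, hxH⟩
    have hxHo : orderOf xH = 5 := by rw [← Subgroup.orderOf_coe]; exact hx'
    have hBN : B ≤ normalizer ((zpowers xH : Subgroup (evenPart G)) : Set (evenPart G)) := by
      intro b hb
      let b₀ : A := ⟨⟨(b : Perm α), b.2.1⟩, hb⟩
      have hb₀ : b₀ ∈ normalizer ((zpowers x₀ : Subgroup A) : Set A) := by
        change b₀ ∈ normalizer ((Q : Subgroup A) : Set A)
        exact h1.ge (mem_top _)
      obtain ⟨k, hk⟩ := mem_zpowers_iff.1 ((mem_normalizer_iff.1 hb₀ x₀).1 (mem_zpowers x₀))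
      refine mem_normalizer_of_conj_eq ?_
      have hconj : b * xH * b⁻¹ = xH ^ k := Subtype.ext (by
        have := congrArg (fun w : A => ((w : G) : Perm α)) hk
        simpa [b₀, x₀, xH] using this.symm)
      refine eq_of_le_of_card_ge ?_ ?_
      · rw [MonoidHom.map_zpowers]
        exact zpowers_le.2 (by
          change b * xH * b⁻¹ ∈ zpowers xH
          rw [hconj]; exact zpow_mem (mem_zpowers xH) k)
      · exact (Nat.card_congr ((zpowers xH).equivMapOfInjective _ (MulEquiv.injective _)).toEquiv).le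
    have h := card_dvd_of_le hBN
    rw [hB, card_normalizer_five hα hA hG h660 hxHo] at h
    norm_num at h
  have hn6 : Nat.card (Sylow 5 A) = 6 := by
    have hmod := card_sylow_modEq_one (p := 5) (G := A)
    have hd : Nat.card (Sylow 5 A) ∣ 24 := by
      have h := Q.card_dvd_index
      have h' := (Q : Subgroup A).card_mul_index
      rw [hQc Q, hA120] at h'
      rwa [show (Q : Subgroup A).index = 24 by omega] at h
    have hle := Nat.le_of_dvd (by norm_num) hd
    have hmod' : Nat.card (Sylow 5 A) % 5 = 1 := hmod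
    interval_cases h : Nat.card (Sylow 5 A) <;> omega
  -- the only Sylow subgroup fixed by `x`
  have honly : ∀ R : Sylow 5 A, x₀ • R = R → R = Q := fun R hR => by
    have h1 : zpowers x₀ ≤ normalizer ((R : Subgroup A) : Set A) :=
      zpowers_le.2 (Sylow.smul_eq_iff_mem_normalizer.1 hR)
    have h2 : IsPGroup 5 (zpowers x₀ ⊔ (R : Subgroup A) : Subgroup A) :=
      (IsPGroup.of_card (n := 1) (by rw [Nat.card_zpowers, hx₀, pow_one])).to_sup_of_normal_right'
        R.isPGroup' h1
    have h3 := R.is_maximal' h2 le_sup_right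
    have h4 : zpowers x₀ ≤ (R : Subgroup A) := h3 ▸ le_sup_left
    exact Sylow.ext (eq_of_le_of_card_ge h4 (by rw [hQc R, Nat.card_zpowers, hx₀])).symm
  have hQfix : x₀ • Q = Q :=
    Sylow.smul_eq_iff_mem_normalizer.2 (le_normalizer (mem_zpowers x₀))
  obtain ⟨R₁, hR₁⟩ : ∃ R : Sylow 5 A, R ≠ Q := by
    haveI : Finite (Sylow 5 A) := Nat.finite_of_card_ne_zero (by omega)
    haveI : Nontrivial (Sylow 5 A) := Finite.one_lt_card_iff_nontrivial.1 (by omega)
    exact exists_ne Q
  have hxz₀ : x₀ * z₀ = z₀ * x₀ := Subtype.ext hxz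
  have hzQ : z₀ • Q = Q := honly _ (by rw [smul_smul, hxz₀, mul_smul, hQfix])
  -- a power of `x` fixing another Sylow subgroup is trivial
  have hpow : ∀ R : Sylow 5 A, R ≠ Q → ∀ w ∈ zpowers x₀, w • R = R → w = 1 := by
    intro R hR w hw hwR
    by_contra hw1
    have hgen := eq_of_le_of_card_ge (zpowers_le.2 hw : zpowers w ≤ zpowers x₀) (by
      rw [Nat.card_zpowers x₀, hx₀]
      have h := orderOf_dvd_natCard (⟨w, hw⟩ : zpowers x₀)
      rw [Subgroup.orderOf_mk, Nat.card_zpowers x₀, hx₀] at h
      rcases (Nat.dvd_prime Nat.prime_five).1 h with h | h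
      · exact absurd (orderOf_eq_one_iff.1 h) hw1
      · rw [Nat.card_zpowers, h])
    refine hR (honly R ?_)
    have hmem : zpowers w ≤ stabilizer A R := zpowers_le.2 (mem_stabilizer_iff.2 hwR)
    exact mem_stabilizer_iff.1 (hmem (hgen ▸ mem_zpowers x₀))
  have hzall : ∀ R : Sylow 5 A, z₀ • R = R := by
    intro R
    by_cases hR : R = Q
    · rw [hR, hzQ]
    let f : zpowers x₀ ⊕ Unit → Sylow 5 A := Sum.elim (fun w => (w : A) • R) (fun _ => Q)
    have hf : Function.Bijective f := by
      rw [Nat.bijective_iff_injective_and_card]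
      refine ⟨Function.Injective.sumElim ?_ (fun _ _ _ => rfl) ?_, by
        rw [Nat.card_sum, Nat.card_zpowers, hx₀, Nat.card_unique, hn6]⟩
      · intro v w (h : (v : A) • R = (w : A) • R)
        have := hpow R hR ((w : A)⁻¹ * v) ((zpowers x₀).mul_mem ((zpowers x₀).inv_mem w.2) v.2)
          (by rw [mul_smul, h, inv_smul_smul])
        exact Subtype.ext (inv_mul_eq_one.1 this).symm
      · intro w _ (h : (w : A) • R = Q)
        refine hR ?_
        rw [← inv_smul_smul (w : A) R, h]
        exact mem_stabilizer_iff.1 ((zpowers_le.2 (mem_stabilizer_iff.2 hQfix) :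
          zpowers x₀ ≤ stabilizer A Q) ((zpowers x₀).inv_mem w.2))
    obtain ⟨w | u₁, hw⟩ := hf.2 (z₀ • R)
    swap
    · exact absurd (smul_left_cancel z₀ (hw.symm.trans hzQ.symm)) hR
    have hw' : (w : A) • R = z₀ • R := hw
    have hcw : z₀ * (w : A) = (w : A) * z₀ := by
      obtain ⟨k, hk⟩ := mem_zpowers_iff.1 w.2
      rw [← hk]
      exact (Commute.zpow_right (show Commute z₀ x₀ from hxz₀.symm) k).eq
    have hww : ((w : A) * w) • R = R := by
      rw [mul_smul, hw', smul_smul, ← hcw, mul_smul, hw', smul_smul,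
        show z₀ * z₀ = 1 from Subtype.ext hz2, one_smul]
    have hw2 := hpow R hR _ ((zpowers x₀).mul_mem w.2 w.2) hww
    have hw1 : (w : A) = 1 := by
      have h1 : orderOf (w : A) ∣ 2 := orderOf_dvd_of_pow_eq_one (by rw [sq]; exact hw2)
      have h2 : orderOf (w : A) ∣ 5 :=
        (Cfsg.Agent.GK7920.orderOf_dvd_card w.2).trans (by rw [Nat.card_zpowers, hx₀])
      exact orderOf_eq_one_iff.1 (Nat.dvd_one.1 (by simpa using Nat.dvd_gcd h1 h2))
    rw [← hw', hw1, one_smul]
  -- hence `z` is central in the stabiliser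
  have hcentral : ∀ g : A, g * z₀ = z₀ * g := by
    intro g
    set k := g * z₀ * g⁻¹
    have hkall : ∀ R : Sylow 5 A, k • R = R := fun R => by
      rw [mul_smul, mul_smul, hzall, smul_inv_smul]
    have hkx : k * x₀ * k⁻¹ * x₀⁻¹ = 1 := by
      have hkN : k ∈ normalizer ((zpowers x₀ : Subgroup A) : Set A) :=
        Sylow.smul_eq_iff_mem_normalizer.1 (hkall Q)
      refine hpow R₁ hR₁ _ ((zpowers x₀).mul_mem ((mem_normalizer_iff.1 hkN x₀).1 (mem_zpowers x₀))
        ((zpowers x₀).inv_mem (mem_zpowers x₀))) ?_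
      rw [mul_smul, mul_smul, mul_smul, inv_smul_eq_iff.2 (hkall _).symm, smul_inv_smul, hkall]
    have hkx' : k * x₀ = x₀ * k := mul_inv_eq_iff_eq_mul.1 (mul_inv_eq_one.1 hkx)
    set w := z₀ * k
    have hwx : w * x₀ = x₀ * w := by
      rw [mul_assoc, hkx', ← mul_assoc, ← hxz₀, mul_assoc]
    have hwe : Equiv.Perm.sign ((w : G) : Perm α) = 1 := by
      change Equiv.Perm.sign (((z₀ * (g * z₀ * g⁻¹) : A) : G) : Perm α) = 1
      simp only [Subgroup.coe_mul, Subgroup.coe_inv, map_mul, map_inv]
      rw [show Equiv.Perm.sign ((z₀ : G) : Perm α) = -1 from hzodd,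
        mul_comm (Equiv.Perm.sign ((g : G) : Perm α)) (-1), mul_inv_cancel_right]
      decide
    let wH : evenPart G := ⟨((w : G) : Perm α), mem_evenPart.2 ⟨(w : G).2, hwe⟩⟩
    let xH : evenPart G := ⟨x, hxH⟩
    have hwC : wH ∈ centralizer ({xH} : Set (evenPart G)) :=
      mem_centralizer_singleton_iff.2 (Subtype.ext (congrArg (fun v : A => ((v : G) : Perm α)) hwx))
    have hxHo : orderOf xH = 5 := by rw [← Subgroup.orderOf_coe]; exact hx'
    have hCe : centralizer ({xH} : Set (evenPart G)) = zpowers xH :=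
      (eq_of_le_of_card_ge (zpowers_le.2 (mem_centralizer_singleton_iff.2 rfl))
        (by rw [card_centralizer_five hα hA hxHo, Nat.card_zpowers, hxHo])).symm
    rw [hCe] at hwC
    obtain ⟨j, hj⟩ := mem_zpowers_iff.1 hwC
    have hwX : w ∈ zpowers x₀ := mem_zpowers_iff.2 ⟨j, Subtype.ext (Subtype.ext
      (by simpa [x₀, xH, wH] using congrArg Subtype.val hj))⟩
    have hw1 : w = 1 := hpow R₁ hR₁ w hwX (by rw [mul_smul, hkall, hzall])
    have hkz : k = z₀ := by
      have h := eq_inv_of_mul_eq_one_right hw1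
      rw [h]
      exact inv_eq_of_mul_eq_one_right (Subtype.ext hz2)
    exact mul_inv_eq_iff_eq_mul.1 hkz
  -- the stabiliser is transitive on the ten other points
  have hxpow : ∀ (i : ℤ) (b : α), b ≠ a → (x ^ i) • b = b → x ^ i = 1 := by
    intro i b hb hi
    by_contra h1
    have hgen : zpowers (x ^ i) = zpowers x :=
      eq_of_le_of_card_ge (zpowers_le.2 (zpow_mem (mem_zpowers x) i)) (by
        rw [Nat.card_zpowers x, hx]
        have h := Cfsg.Agent.GK7920.orderOf_dvd_card (zpow_mem (mem_zpowers x) i)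
        rw [Nat.card_zpowers x, hx] at h
        rcases (Nat.dvd_prime Nat.prime_five).1 h with h | h
        · exact absurd (orderOf_eq_one_iff.1 h) h1
        · rw [Nat.card_zpowers, h])
    exact hb (hxfix b (mem_stabilizer_iff.1
      ((zpowers_le.2 (mem_stabilizer_iff.2 hi) : zpowers (x ^ i) ≤ stabilizer G b)
        (hgen ▸ mem_zpowers x))))
  have horb : ∀ b, b ≠ a → orbit A b = {a}ᶜ := by
    intro b hb
    refine Set.eq_of_subset_of_ncard_le ?_ ?_ (Set.toFinite _)
    · rintro _ ⟨g, rfl⟩ h
      rw [Set.mem_singleton_iff] at h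
      exact hb (smul_left_cancel (g : G) (h.trans (mem_stabilizer_iff.1 g.2).symm))
    · rw [Set.ncard_compl, Set.ncard_singleton, Nat.card_eq_fintype_card, hα]
      let f : zpowers x ⊕ zpowers x → orbit A b := Sum.elim
        (fun w => ⟨(w : G) • b, ⟨⟨w, (zpowers_le.2 (mem_stabilizer_iff.2 hxa) :
          zpowers x ≤ A) w.2⟩, rfl⟩⟩)
        (fun w => ⟨(z * (w : G)) • b, ⟨⟨z * w, A.mul_mem hza ((zpowers_le.2
          (mem_stabilizer_iff.2 hxa) : zpowers x ≤ A) w.2)⟩, rfl⟩⟩)
      have hone : ∀ v w : zpowers x, (v : G) • b = (w : G) • b → v = w := fun v w h => by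
        obtain ⟨i, hi⟩ := mem_zpowers_iff.1 ((zpowers x).mul_mem ((zpowers x).inv_mem w.2) v.2)
        have h1 := hxpow i b hb (by rw [hi, mul_smul, h, inv_smul_smul])
        rw [hi, inv_mul_eq_one] at h1
        exact Subtype.ext h1.symm
      have hf : Function.Injective f := by
        refine Function.Injective.sumElim (fun v w h => hone v w (congrArg Subtype.val h))
          (fun v w h => hone v w ?_) fun v w h => ?_
        · have h' : (z * (v : G)) • b = (z * (w : G)) • b := congrArg Subtype.val h
          rw [mul_smul, mul_smul] at h'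
          exact smul_left_cancel z h'
        · have h' : (v : G) • b = (z * (w : G)) • b := congrArg Subtype.val h
          obtain ⟨i, hi⟩ := mem_zpowers_iff.1 ((zpowers x).mul_mem ((zpowers x).inv_mem w.2) v.2)
          have hcz : z * x ^ i = x ^ i * z :=
            (Commute.zpow_right (show Commute z x from hxz.symm) i).eq
          have hzi : x ^ i • b = z • b := by
            have hcw : z * (w : G) = (w : G) * z := by
              obtain ⟨k, hk⟩ := mem_zpowers_iff.1 w.2
              rw [← hk]
              exact (Commute.zpow_right (show Commute z x from hxz.symm) k).eq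
            rw [hi, mul_smul, h', hcw, mul_smul, inv_smul_smul]
          have h2 : (x ^ i * x ^ i) • b = b := by
            rw [mul_smul, hzi, smul_smul, ← hcz, mul_smul, hzi, smul_smul, hz2, one_smul]
          rw [← zpow_add] at h2
          have h3 := hxpow (i + i) b hb h2
          rw [← orderOf_dvd_iff_zpow_eq_one, hx] at h3
          have h4 : x ^ i = 1 := by
            rw [← orderOf_dvd_iff_zpow_eq_one, hx]
            omega
          rw [h4, one_smul] at hzi
          exact hb (hzfix b hzi.symm)
      have := Nat.card_le_card_of_injective f hf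
      rw [Nat.card_sum, Nat.card_zpowers, hx, Nat.card_coe_set_eq] at this
      omega
  haveI : Nontrivial α := Fintype.one_lt_card_iff_nontrivial.1 (by omega)
  have htwo : ∀ p q b : α, p ≠ q → b ≠ a → ∃ g : G, g • a = p ∧ g • b = q := by
    intro p q b hpq hb
    obtain ⟨g, hg⟩ := exists_smul_eq G a p
    have h : g⁻¹ • q ≠ a := fun e => hpq (by rw [← hg, ← e, smul_inv_smul])
    obtain ⟨h', hh'⟩ : g⁻¹ • q ∈ orbit A b := by rw [horb b hb]; exact h
    exact ⟨g * (h' : G), by rw [mul_smul, mem_stabilizer_iff.1 h'.2, hg],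
      by rw [mul_smul]; exact (congrArg (g • ·) hh').trans (smul_inv_smul g q)⟩
  obtain ⟨b, hb⟩ := exists_ne a
  set K := stabilizer G (a, b)
  have hpair : ∀ p q : α, p ≠ q → Nat.card (stabilizer G (p, q)) = 12 := by
    intro p q hpq
    have h := (stabilizer G (p, q)).card_mul_index
    have horbit : orbit G (p, q) = (Finset.univ.offDiag : Finset (α × α)) := by
      ext ⟨r, s⟩
      simp only [Finset.coe_offDiag, Set.mem_offDiag, Finset.coe_univ, Set.mem_univ, true_and]
      constructor
      · rintro ⟨g, hg⟩ e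
        have h1 : g • p = r := congrArg Prod.fst hg
        have h2 : g • q = s := congrArg Prod.snd hg
        exact hpq (smul_left_cancel g (h1.trans (e.trans h2.symm)))
      · intro hrs
        obtain ⟨g, hg1, hg2⟩ := htwo p q b hpq hb
        obtain ⟨g', hg1', hg2'⟩ := htwo r s b hrs hb
        exact ⟨g' * g⁻¹, Prod.ext
          (by change (g' * g⁻¹) • p = r; rw [mul_smul, ← hg1, inv_smul_smul, hg1'])
          (by change (g' * g⁻¹) • q = s; rw [mul_smul, ← hg2, inv_smul_smul, hg2'])⟩
    rw [index_stabilizer, horbit, Set.ncard_coe_finset, Finset.offDiag_card, Finset.card_univ, hα,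
      hcard] at h
    omega
  let F : Finset α := Finset.univ.filter fun c => ∀ k ∈ K, k • c = c
  have hKa : ∀ k ∈ K, k • a = a := fun k hk => congrArg Prod.fst (mem_stabilizer_iff.1 hk)
  have hKb : ∀ k ∈ K, k • b = b := fun k hk => congrArg Prod.snd (mem_stabilizer_iff.1 hk)
  have hmemF : ∀ c, c ∈ F ↔ ∀ k ∈ K, k • c = c := fun c => by simp [F]
  have hzbF : z • b ∈ F := (hmemF _).2 fun k hk => by
    have hc : k * z = z * k := congrArg Subtype.val (hcentral ⟨k, hKa k hk⟩)
    rw [smul_smul, hc, mul_smul, hKb k hk]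
  have hF3 : 3 ≤ F.card := by
    have hsub : ({a, b, z • b} : Finset α) ⊆ F := by
      intro c hc
      simp only [Finset.mem_insert, Finset.mem_singleton] at hc
      rcases hc with rfl | rfl | rfl
      exacts [(hmemF _).2 hKa, (hmemF _).2 hKb, hzbF]
    refine le_trans ?_ (Finset.card_le_card hsub)
    have h1 : a ≠ z • b := fun e => hb (smul_left_cancel z (e.symm.trans hza.symm))
    have h2 : b ≠ z • b := fun e => hb (hzfix b e.symm)
    rw [Finset.card_insert_of_notMem (by simp [hb.symm, h1]), Finset.card_pair h2]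
  set M := normalizer (K : Set G)
  have horbM : orbit M (a, b) = (F.offDiag : Finset (α × α)) := by
    ext ⟨p, q⟩
    simp only [Finset.coe_offDiag, Set.mem_offDiag, Finset.mem_coe]
    constructor
    · rintro ⟨g, hg⟩
      have h1 : (g : G) • a = p := congrArg Prod.fst hg
      have h2 : (g : G) • b = q := congrArg Prod.snd hg
      have hconj : ∀ k ∈ K, (g : G)⁻¹ * k * g ∈ K := fun k hk => by
        have := (mem_normalizer_iff''.1 g.2 k).1 hk
        exact this
      refine ⟨(hmemF _).2 fun k hk => ?_, (hmemF _).2 fun k hk => ?_,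
        fun e => hb (smul_left_cancel (g : G) ((h2.trans e.symm).trans h1.symm))⟩
      · have := hKa _ (hconj k hk)
        rw [mul_smul, mul_smul, inv_smul_eq_iff, h1] at this
        exact this
      · have := hKb _ (hconj k hk)
        rw [mul_smul, mul_smul, inv_smul_eq_iff, h2] at this
        exact this
    · rintro ⟨hp, hq, hpq⟩
      obtain ⟨g, hg1, hg2⟩ := htwo p q b hpq hb
      have hle : K.map (MulAut.conj g).toMonoidHom ≤ stabilizer G (p, q) := by
        rintro _ ⟨k, hk, rfl⟩
        refine mem_stabilizer_iff.2 (Prod.ext ?_ ?_)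
        · change (g * k * g⁻¹) • p = p
          rw [← hg1, mul_smul, mul_smul, inv_smul_smul, hKa k hk]
        · change (g * k * g⁻¹) • q = q
          rw [← hg2, mul_smul, mul_smul, inv_smul_smul, hKb k hk]
      have hle2 : K ≤ stabilizer G (p, q) := fun k hk =>
        mem_stabilizer_iff.2 (Prod.ext ((hmemF p).1 hp k hk) ((hmemF q).1 hq k hk))
      have e1 := eq_of_le_of_card_ge hle2 (by rw [hpair p q hpq, hpair a b hb.symm])
      have e2 := eq_of_le_of_card_ge hle (by
        rw [hpair p q hpq, ← Nat.card_congr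
          (K.equivMapOfInjective _ (MulEquiv.injective (MulAut.conj g))).toEquiv, hpair a b hb.symm])
      exact ⟨⟨g, mem_normalizer_of_conj_eq (e2.trans e1.symm)⟩, Prod.ext hg1 hg2⟩
  have hMc : Nat.card M = F.offDiag.card * 12 := by
    have h := (stabilizer M (a, b)).card_mul_index
    rw [index_stabilizer, horbM, Set.ncard_coe_finset] at h
    have he : Nat.card (stabilizer M (a, b)) = 12 := by
      rw [show stabilizer M (a, b) = K.subgroupOf M from rfl,
        Nat.card_congr (subgroupOfEquivOfLe le_normalizer).toEquiv, hpair a b hb.symm]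
    rw [← h, he, mul_comm]
  have hdvd : F.offDiag.card * 12 ∣ 1320 := by
    rw [← hMc, ← hcard]
    exact card_subgroup_dvd_card M
  have hF10 : F.card < 11 := by
    by_contra hlt
    have hFu : F = Finset.univ := Finset.eq_univ_of_card F (by
      have := F.card_le_univ; omega)
    have hKbot : K = ⊥ := by
      rw [eq_bot_iff]
      intro k hk
      refine Subgroup.mem_bot.2 (eq_of_smul_eq_smul (α := α) fun c => ?_)
      rw [one_smul]
      exact (hmemF c).1 (hFu ▸ Finset.mem_univ c) k hk
    have := hpair a b hb.symm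
    rw [show stabilizer G (a, b) = K from rfl, hKbot, Subgroup.card_bot] at this
    omega
  rw [Finset.offDiag_card] at hdvd
  interval_cases hc : F.card <;> omega

end CfsgLib.ElevenPts
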